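import Mathlib
import Cfsg.Prelude.Def_Transfer
import Cfsg.Agent.H14.Tor.FactsHe
import Cfsg.Agent.H492.IMHe
import Cfsg.Agent.FastGrp
import Cfsg.Agent.Prune
set_option linter.all false
prune_inst 0x7f00000000000000000000000000000000000000000000000000000000000000000000000000000000000000000000000000000000000000000000000000000000000000000000000000000000000000003fffffffffffffffffffffffffffbeffbdffffffff
open scoped Cfsg.Agent.FastGrp

-- part: H725/Cov/SevTool
section
/-!
# Groups with Sylow `p`-subgroups of order `p ^ 3` without abelian subgroups of order `p ^ 3` (helper725)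
-/

set_option autoImplicit false

namespace Cfsg.Agent.H725.CovHe

open Cfsg Subgroup

section Tools

variable {G : Type*} [Group G] [Finite G] {p : ℕ} [hp : Fact p.Prime]

/-- the fixed points of a `p`-group `T` on a nontrivial `p`-group `Z` which it normalises -/
theorem exists_fixed {T Z : Subgroup G} (hT : IsPGroup p T)
    (hZ : p ∣ Nat.card Z) (hn : ∀ x ∈ T, ∀ z ∈ Z, x * z * x⁻¹ ∈ Z) :
    ∃ z ∈ Z, z ≠ 1 ∧ ∀ x ∈ T, x * z = z * x := by
  let act : MulAction T Z :=
    { smul := fun x z => ⟨x * z * (x : G)⁻¹, hn x x.2 z z.2⟩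
      one_smul := fun z => Subtype.ext (by change (1 : G) * z * (1 : G)⁻¹ = z; simp)
      mul_smul := fun x y z => Subtype.ext (by
        change ((x : G) * y) * z * ((x : G) * y)⁻¹ = x * (y * z * (y : G)⁻¹) * (x : G)⁻¹
        group) }
  have h1 : (1 : Z) ∈ MulAction.fixedPoints T Z := by
    intro x
    apply Subtype.ext
    change (x : G) * 1 * (x : G)⁻¹ = 1
    simp
  obtain ⟨b, hb, hb1⟩ := hT.exists_fixed_point_of_prime_dvd_card_of_fixed_point Z hZ h1
  refine ⟨b, b.2, fun h => hb1 (Subtype.ext h.symm), fun x hx => ?_⟩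
  have h2 : (x : G) * b * (x : G)⁻¹ = b := congrArg Subtype.val (hb ⟨x, hx⟩)
  calc x * (b : G) = x * b * x⁻¹ * x := by group
    _ = b * x := by rw [h2]

/-- a power of order `p` of a nontrivial element of a `p`-group -/
theorem exists_pow_order {Z : Subgroup G} (hZ : IsPGroup p Z) {z : G} (hz : z ∈ Z) (h1 : z ≠ 1) :
    ∃ n : ℕ, orderOf (z ^ n) = p := by
  obtain ⟨k, hk⟩ := (IsPGroup.iff_orderOf.1 hZ) ⟨z, hz⟩
  rw [Subgroup.orderOf_mk] at hk
  have hk0 : k ≠ 0 := by
    rintro rfl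
    rw [pow_zero, orderOf_eq_one_iff] at hk
    exact h1 hk
  refine ⟨p ^ (k - 1), ?_⟩
  rw [orderOf_pow_of_dvd (pow_ne_zero _ hp.out.ne_zero) (by rw [hk]; exact pow_dvd_pow p (by omega)), hk,
    Nat.pow_div (by omega) hp.out.pos, show k - (k - 1) = 1 by omega, pow_one]

/-- an element of order `p` normalising a group of order less than `p` centralises it -/
theorem cent_small {x : G} (hx : orderOf x = p) {R : Subgroup G} (hR : Nat.card R < p)
    (hn : ∀ r ∈ R, x * r * x⁻¹ ∈ R) : ∀ r ∈ R, x * r = r * x := by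
  let f : R → R := fun r => ⟨x * r * x⁻¹, hn r r.2⟩
  have hf : Function.Injective f := by
    intro a b h
    have h1 : x * (a : G) * x⁻¹ = x * b * x⁻¹ := congrArg Subtype.val h
    exact Subtype.ext (mul_left_cancel (mul_right_cancel h1))
  let σ : Equiv.Perm R := Equiv.ofBijective f (Finite.injective_iff_bijective.1 hf)
  have hσ : ∀ (n : ℕ) (r : R), (((σ ^ n) r : R) : G) = x ^ n * r * (x ^ n)⁻¹ := by
    intro n
    induction n with
    | zero => intro r; simp
    | succ n ih =>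
      intro r
      rw [pow_succ', Equiv.Perm.mul_apply]
      show x * (((σ ^ n) r : R) : G) * x⁻¹ = _
      rw [ih, pow_succ']
      group
  have h1 : σ ^ p = 1 := by
    ext r
    rw [hσ, ← hx, pow_orderOf_eq_one]
    simp
  have h2 : orderOf σ ∣ p := orderOf_dvd_of_pow_eq_one h1
  have h3 : orderOf σ ∣ (Nat.card R).factorial := by
    rw [← Nat.card_perm]
    exact orderOf_dvd_natCard σ
  have h4 : σ = 1 := by
    rw [← orderOf_eq_one_iff]
    rcases (Nat.dvd_prime hp.out).1 h2 with h | h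
    · exact h
    · rw [h, hp.out.dvd_factorial] at h3
      omega
  intro r hr
  have h5 : x * r * x⁻¹ = r := congrArg (fun τ : Equiv.Perm R => ((τ ⟨r, hr⟩ : R) : G)) h4
  calc x * r = x * r * x⁻¹ * x := by group
    _ = r * x := by rw [h5]

/-- a commutative subgroup and an element of prime order which centralises it -/
theorem ext {B : Subgroup G} (hB : ∀ x ∈ B, ∀ y ∈ B, x * y = y * x) {e : G} (he : orderOf e = p)
    (hc : ∀ x ∈ B, x * e = e * x) (hn : e ∉ B) :
    ∃ A : Subgroup G, (∀ x ∈ A, ∀ y ∈ A, x * y = y * x) ∧ Nat.card A = Nat.card B * p ∧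
      (∀ x, x ∈ A ↔ ∃ b ∈ B, ∃ k : ℤ, x = b * e ^ k) := by
  have hcomm : ∀ (b : B) (z : zpowers e), Commute (B.subtype b) ((zpowers e).subtype z) := by
    rintro ⟨b, hb⟩ ⟨_, k, rfl⟩
    exact (show Commute b e from hc b hb).zpow_right k
  let φ : B × zpowers e →* G := MonoidHom.noncommCoprod B.subtype (zpowers e).subtype hcomm
  have hφ : ∀ (b : B) (z : zpowers e), φ (b, z) = b * z := fun b z => rfl
  have hdis : ∀ z : G, z ∈ zpowers e → z ∈ B → z = 1 := by
    intro z hz hzB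
    by_contra h1
    apply hn
    have h2 : zpowers z = zpowers e := by
      apply Subgroup.eq_of_le_of_card_ge
      · rwa [zpowers_le]
      · rw [Nat.card_zpowers, Nat.card_zpowers, he]
        have h3 : orderOf z ∣ p := by rw [← he]; exact orderOf_dvd_of_mem_zpowers hz
        rcases (Nat.dvd_prime hp.out).1 h3 with h | h
        · exact absurd (orderOf_eq_one_iff.1 h) h1
        · rw [h]
    have h3 : e ∈ zpowers z := by rw [h2]; exact mem_zpowers e
    exact (zpowers_le.2 hzB) h3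
  have hinj : Function.Injective φ := by
    rw [injective_iff_map_eq_one]
    rintro ⟨b, z⟩ h
    rw [hφ] at h
    have h1 : (z : G) = (b : G)⁻¹ := by
      rw [eq_comm, inv_eq_iff_mul_eq_one]
      exact h
    have h2 : (z : G) = 1 := hdis z z.2 (by rw [h1]; exact B.inv_mem b.2)
    rw [h2, mul_one] at h
    exact Prod.ext (Subtype.ext h) (Subtype.ext h2)
  have hmem : ∀ x, x ∈ φ.range ↔ ∃ b ∈ B, ∃ k : ℤ, x = b * e ^ k := by
    intro x
    constructor
    · rintro ⟨⟨b, z⟩, rfl⟩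
      obtain ⟨k, hk⟩ := mem_zpowers_iff.1 z.2
      exact ⟨b, b.2, k, by rw [hφ, hk]⟩
    · rintro ⟨b, hb, k, rfl⟩
      exact ⟨(⟨b, hb⟩, ⟨e ^ k, k, rfl⟩), rfl⟩
  refine ⟨φ.range, ?_, ?_, hmem⟩
  · intro x hx y hy
    obtain ⟨b, hb, k, rfl⟩ := (hmem x).1 hx
    obtain ⟨c, hc', l, rfl⟩ := (hmem y).1 hy
    have h1 : Commute b (e ^ l) := (show Commute b e from hc b hb).zpow_right l
    have h2 : Commute c (e ^ k) := (show Commute c e from hc c hc').zpow_right k
    have h3 : Commute (e ^ k) (e ^ l) := (Commute.refl e).zpow_zpow k l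
    have h4 : Commute b c := hB b hb c hc'
    have h5 : Commute (b * e ^ k) (c * e ^ l) := (h4.mul_left h2.symm).mul_right (h1.mul_left h3)
    exact h5
  · rw [← Nat.card_congr (MonoidHom.ofInjective hinj).toEquiv, Nat.card_prod, Nat.card_zpowers, he]

end Tools

section Cube

variable {G : Type*} [Group G] [Finite G]

/-- no commutative subgroup has order divisible by `p ^ 3` -/
def NoAb (p : ℕ) (G : Type*) [Group G] : Prop :=
  ∀ A : Subgroup G, (∀ x ∈ A, ∀ y ∈ A, x * y = y * x) → ¬ p ^ 3 ∣ Nat.card A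

variable {p : ℕ} [hp : Fact p.Prime]

/-- **two commuting elements of order `p`** -/
theorem pair {c d : G} (hc : orderOf c = p) (hd : orderOf d = p) (h1 : c * d = d * c) (hn : d ∉ zpowers c) :
    ∃ A : Subgroup G, (∀ x ∈ A, ∀ y ∈ A, x * y = y * x) ∧ Nat.card A = p ^ 2 ∧
      (∀ x, x ∈ A ↔ ∃ i j : ℤ, x = c ^ i * d ^ j) := by
  obtain ⟨A, hA1, hA2, hA3⟩ := ext (B := zpowers c) (e := d) (p := p)
    (by
      rintro _ ⟨i, rfl⟩ _ ⟨j, rfl⟩
      exact ((Commute.refl c).zpow_zpow i j).eq) hd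
    (by
      rintro _ ⟨i, rfl⟩
      exact ((show Commute c d from h1).zpow_left i).eq) hn
  refine ⟨A, hA1, ?_, ?_⟩
  · rw [hA2, Nat.card_zpowers, hc, pow_two]
  · intro x
    rw [hA3]
    constructor
    · rintro ⟨_, ⟨i, rfl⟩, j, rfl⟩
      exact ⟨i, j, rfl⟩
    · rintro ⟨i, j, rfl⟩
      exact ⟨_, ⟨i, rfl⟩, j, rfl⟩

/-- **three commuting elements of order `p`** -/
theorem three (hna : NoAb p G) {c d e : G} (hc : orderOf c = p) (hd : orderOf d = p) (he : orderOf e = p)
    (h1 : c * d = d * c) (h2 : c * e = e * c) (h3 : d * e = e * d) (hn : d ∉ zpowers c) :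
    ∃ i j : ℤ, e = c ^ i * d ^ j := by
  obtain ⟨A, hA1, hA2, hA3⟩ := pair hc hd h1 hn
  rw [← hA3]
  by_contra hne
  obtain ⟨B, hB1, hB2, -⟩ := ext hA1 he
    (by
      intro x hx
      obtain ⟨i, j, rfl⟩ := (hA3 x).1 hx
      have h4 : Commute (c ^ i * d ^ j) e :=
        ((show Commute c e from h2).zpow_left i).mul_left ((show Commute d e from h3).zpow_left j)
      exact h4) hne
  apply hna B hB1
  rw [hB2, hA2, ← pow_succ]

/-- **a nonabelian Sylow subgroup of order `p ^ 3`** -/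
theorem exists_center (hna : NoAb p G) {P : Subgroup G} (hP : Nat.card P = p ^ 3) :
    ∃ w ∈ P, orderOf w = p ∧ (∀ g ∈ P, g * w = w * g) ∧
      (∀ g ∈ P, ∀ h ∈ P, ∃ k : ℤ, g * h * g⁻¹ = h * w ^ k) ∧
      ∀ h ∈ P, (∀ g ∈ P, g * h = h * g) → h ∈ zpowers w := by
  have hPp : IsPGroup p P := IsPGroup.of_card hP
  obtain ⟨k, hk0, hk⟩ := IsPGroup.card_center_eq_prime_pow hP (by norm_num)
  have hcm := (center P).card_mul_index
  rw [hP, hk] at hcm
  have hk3 : k ≤ 3 := by
    have h1 : p ^ k ∣ p ^ 3 := ⟨_, hcm.symm⟩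
    exact (Nat.pow_dvd_pow_iff_le_right hp.out.one_lt).1 h1
  -- `P` is not commutative
  have hnc : ¬ ∀ x y : P, x * y = y * x := by
    intro h
    apply hna P _ (by rw [hP])
    intro x hx y hy
    exact congrArg Subtype.val (h ⟨x, hx⟩ ⟨y, hy⟩)
  have hk1 : k = 1 := by
    by_contra hne
    rcases (show k = 2 ∨ k = 3 by omega) with rfl | rfl
    · apply hnc
      have h1 : (center P).index = p := by
        have h2 : p ^ 2 * (center P).index = p ^ 2 * p := by rw [hcm]; ring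
        exact Nat.eq_of_mul_eq_mul_left (pow_pos hp.out.pos 2) h2
      have h2 : IsCyclic (P ⧸ center P) := isCyclic_of_prime_card (p := p) h1
      have h3 := isMulCommutative_of_isCyclic_quotient_center_self P
      exact h3.is_comm.comm
    · apply hnc
      have h1 : center P = ⊤ := Subgroup.eq_top_of_card_eq _ (by rw [hk, hP])
      intro x y
      have h2 : x ∈ center P := by rw [h1]; exact mem_top x
      exact (mem_center_iff.1 h2 y).symm
  subst hk1
  have hq : Nat.card (P ⧸ center P) = p ^ 2 := by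
    have h2 : p ^ 1 * (center P).index = p ^ 1 * p ^ 2 := by rw [hcm]; ring
    exact Nat.eq_of_mul_eq_mul_left (pow_pos hp.out.pos 1) h2
  have hqc := (IsPGroup.isMulCommutative_of_card_eq_prime_sq hq).is_comm.comm
  rw [pow_one] at hk
  obtain ⟨z, hz⟩ := exists_prime_orderOf_dvd_card' (G := center P) p (by rw [hk])
  have hzo : orderOf ((z : P) : G) = p := by rw [Subgroup.orderOf_coe, Subgroup.orderOf_coe, hz]
  refine ⟨(z : P), (z : P).2, hzo, ?_, ?_, ?_⟩
  · intro g hg
    exact congrArg Subtype.val (mem_center_iff.1 z.2 ⟨g, hg⟩)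
  · intro g hg h hh
    have h1 : (⟨h, hh⟩ : P)⁻¹ * (⟨g, hg⟩ * ⟨h, hh⟩ * (⟨g, hg⟩ : P)⁻¹) ∈ center P := by
      rw [← QuotientGroup.eq_one_iff]
      rw [QuotientGroup.mk_mul, QuotientGroup.mk_mul, QuotientGroup.mk_mul, QuotientGroup.mk_inv,
        QuotientGroup.mk_inv, hqc (_ : P ⧸ center P) ((⟨h, hh⟩ : P) : P ⧸ center P)]
      group
    have h2 : zpowers z = ⊤ := by
      apply Subgroup.eq_top_of_card_eq
      rw [Nat.card_zpowers, hz, hk]
    have h3 : (⟨_, h1⟩ : center P) ∈ zpowers z := by rw [h2]; exact mem_top _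
    obtain ⟨m, hm⟩ := mem_zpowers_iff.1 h3
    refine ⟨m, ?_⟩
    have h4 : ((z : P) : G) ^ m = h⁻¹ * (g * h * g⁻¹) :=
      congrArg (fun t : center P => ((t : P) : G)) hm
    rw [h4]
    group
  · intro h hh hc
    have h1 : (⟨h, hh⟩ : P) ∈ center P := mem_center_iff.2 fun g => Subtype.ext (hc g g.2)
    have h2 : zpowers z = ⊤ := by
      apply Subgroup.eq_top_of_card_eq
      rw [Nat.card_zpowers, hz, hk]
    have h3 : (⟨_, h1⟩ : center P) ∈ zpowers z := by rw [h2]; exact mem_top _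
    obtain ⟨m, hm⟩ := mem_zpowers_iff.1 h3
    exact ⟨m, congrArg (fun t : center P => ((t : P) : G)) hm⟩

/-- conjugation by powers of `g` -/
theorem conj_pow_form {g h w : G} {k : ℤ} (hgh : g * h * g⁻¹ = h * w ^ k) (hgw : g * w = w * g) (hhw : h * w = w * h)
    (n : ℕ) (i : ℤ) : g ^ n * h ^ i * (g ^ n)⁻¹ = h ^ i * w ^ (n * i * k) := by
  have h1 : ∀ n : ℕ, g ^ n * h * (g ^ n)⁻¹ = h * w ^ (n * k) := by
    intro n
    induction n with
    | zero => simp
    | succ n ih =>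
      have h2 : Commute (g ^ n) (w ^ k) := ((show Commute g w from hgw).pow_left n).zpow_right k
      calc g ^ (n + 1) * h * (g ^ (n + 1))⁻¹ = g ^ n * (g * h * g⁻¹) * (g ^ n)⁻¹ := by
            rw [pow_succ]; group
        _ = g ^ n * h * (w ^ k * (g ^ n)⁻¹) := by rw [hgh]; group
        _ = g ^ n * h * ((g ^ n)⁻¹ * w ^ k) := by rw [(h2.inv_left).eq]
        _ = (g ^ n * h * (g ^ n)⁻¹) * w ^ k := by group
        _ = h * (w ^ (n * k) * w ^ k) := by rw [ih, mul_assoc]
        _ = _ := by rw [← zpow_add]; push_cast; ring_nf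
  have h3 : Commute h (w ^ (n * k : ℤ)) := (show Commute h w from hhw).zpow_right _
  rw [← conj_zpow, h1 n, h3.mul_zpow, ← zpow_mul]
  ring_nf

/-- the centralizer of a power -/
theorem comm_of_zpow {x m : G} (hx : orderOf x = p) {i : ℤ} (hi : ¬ (p : ℤ) ∣ i) (h : m * x ^ i = x ^ i * m) :
    m * x = x * m := by
  have h1 : IsCoprime (p : ℤ) i := (Nat.prime_iff_prime_int.1 hp.out).coprime_iff_not_dvd.2 hi
  obtain ⟨a, b, hab⟩ := h1
  have h2 : x = (x ^ i) ^ b := by
    have h3 : x ^ (p : ℤ) = 1 := by rw [zpow_natCast, ← hx, pow_orderOf_eq_one]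
    calc x = x ^ (1 : ℤ) := (zpow_one x).symm
      _ = x ^ (a * p + b * i) := by rw [hab]
      _ = (x ^ (p : ℤ)) ^ a * (x ^ i) ^ b := by rw [zpow_add, ← zpow_mul, ← zpow_mul, mul_comm a, mul_comm b]
      _ = (x ^ i) ^ b := by rw [h3, one_zpow, one_mul]
  rw [h2]
  exact ((show Commute m (x ^ i) from h).zpow_right b).eq

theorem centralizer_zpow {x : G} (hx : orderOf x = p) {i : ℤ} (hi : ¬ (p : ℤ) ∣ i) :
    centralizer ({x ^ i} : Set G) = centralizer ({x} : Set G) := by
  ext m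
  rw [mem_centralizer_singleton_iff, mem_centralizer_singleton_iff]
  exact ⟨comm_of_zpow hx hi, fun h => ((show Commute m x from h).zpow_right i).eq⟩

theorem card_centralizer_conj (u t : G) :
    Nat.card (centralizer ({u * t * u⁻¹} : Set G)) = Nat.card (centralizer ({t} : Set G)) := by
  apply Nat.card_congr
  refine
    { toFun := fun c => ⟨u⁻¹ * c * u, ?_⟩
      invFun := fun c => ⟨u * c * u⁻¹, ?_⟩
      left_inv := fun c => Subtype.ext (by show u * (u⁻¹ * (c : G) * u) * u⁻¹ = c; group)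
      right_inv := fun c => Subtype.ext (by show u⁻¹ * (u * (c : G) * u⁻¹) * u = c; group) }
  · have h := mem_centralizer_singleton_iff.1 c.2
    rw [mem_centralizer_singleton_iff]
    calc u⁻¹ * (c : G) * u * t = u⁻¹ * (c * (u * t * u⁻¹)) * u := by group
      _ = u⁻¹ * ((u * t * u⁻¹) * c) * u := by rw [h]
      _ = _ := by group
  · have h := mem_centralizer_singleton_iff.1 c.2
    rw [mem_centralizer_singleton_iff]
    calc u * (c : G) * u⁻¹ * (u * t * u⁻¹) = u * (c * t) * u⁻¹ := by group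
      _ = u * (t * c) * u⁻¹ := by rw [h]
      _ = _ := by group

/-- **the key step**: an element `x` of `P` not commuting with `P` is conjugate to all the `x w ^ j` -/
theorem exists_conj_of {P : Subgroup G} {w : G} (hw : orderOf w = p) (hwP : ∀ g ∈ P, g * w = w * g)
    (hc : ∀ g ∈ P, ∀ h ∈ P, ∃ k : ℤ, g * h * g⁻¹ = h * w ^ k) {x : G} (hxP : x ∈ P)
    (hx : ¬ ∀ g ∈ P, g * x = x * g) {i : ℤ} (hi : ¬ (p : ℤ) ∣ i) (j : ℤ) :
    ∃ g ∈ P, g * x ^ i * g⁻¹ = x ^ i * w ^ j := by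
  push Not at hx
  obtain ⟨g, hg, hgx⟩ := hx
  obtain ⟨k, hk⟩ := hc g hg x hxP
  have hk0 : ¬ (p : ℤ) ∣ k := by
    intro h
    apply hgx
    rw [(orderOf_dvd_iff_zpow_eq_one (x := w)).1 (by rw [hw]; exact h), mul_one] at hk
    exact mul_inv_eq_iff_eq_mul.1 hk
  have hpi := Nat.prime_iff_prime_int.1 hp.out
  have h1 : IsCoprime (p : ℤ) (i * k) := hpi.coprime_iff_not_dvd.2 fun h => (hpi.dvd_or_dvd h).elim hi hk0
  obtain ⟨a, b, hab⟩ := h1
  -- `n = b j` modulo `p`
  have hp0 : (p : ℤ) ≠ 0 := by exact_mod_cast hp.out.ne_zero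
  obtain ⟨n, hn⟩ : ∃ n : ℕ, (n : ℤ) = b * j % p := ⟨(b * j % p).toNat, Int.toNat_of_nonneg (Int.emod_nonneg _ hp0)⟩
  refine ⟨g ^ n, P.pow_mem hg n, ?_⟩
  rw [conj_pow_form hk (hwP g hg) (hwP x hxP) n i]
  congr 1
  rw [zpow_eq_zpow_iff_modEq, hw]
  have h2 : (n : ℤ) ≡ b * j [ZMOD p] := by rw [hn]; exact Int.mod_modEq _ _
  have h3 : b * j * i * k ≡ j [ZMOD p] := by
    have h4 : b * j * i * k = j - p * (a * j) := by
      have h5 : b * (i * k) = 1 - a * p := by linarith
      calc b * j * i * k = b * (i * k) * j := by ring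
        _ = (1 - a * p) * j := by rw [h5]
        _ = _ := by ring
    rw [h4]
    exact (Int.modEq_iff_dvd.2 ⟨a * j, by ring⟩)
  exact (Int.ModEq.mul_right k (Int.ModEq.mul_right i h2)).trans h3

/-- the order of a Sylow subgroup -/
theorem card_sylow (h3 : p ^ 3 ∣ Nat.card G) (h4 : ¬ p ^ 4 ∣ Nat.card G) (P : Sylow p G) : Nat.card P = p ^ 3 := by
  obtain ⟨k, hk⟩ := (IsPGroup.iff_card).1 P.isPGroup'
  have h1 : p ^ 3 ∣ Nat.card P := P.pow_dvd_card_of_pow_dvd_card h3
  have h2 : p ^ k ∣ Nat.card G := hk ▸ Subgroup.card_subgroup_dvd_card _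
  have h5 : k < 4 := by
    by_contra h
    exact h4 ((pow_dvd_pow p (by omega : 4 ≤ k)).trans h2)
  rw [hk] at h1 ⊢
  have h6 : 3 ≤ k := (Nat.pow_dvd_pow_iff_le_right hp.out.one_lt).1 h1
  have h7 : k = 3 := by omega
  rw [h7]

/-- the Sylow subgroups are not abelian -/
theorem noAb_of (h4 : ¬ p ^ 4 ∣ Nat.card G) {x : G} (hx : orderOf x = p)
    (hc : ¬ p ^ 3 ∣ Nat.card (centralizer ({x} : Set G))) : NoAb p G := by
  intro A hA hd
  obtain ⟨Q⟩ : Nonempty (Sylow p A) := inferInstance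
  have hQ : p ^ 3 ∣ Nat.card Q := Q.pow_dvd_card_of_pow_dvd_card hd
  have hQ' : IsPGroup p ((Q : Subgroup A).map A.subtype) := Q.isPGroup'.map A.subtype
  have hcard : Nat.card ((Q : Subgroup A).map A.subtype) = Nat.card Q := Subgroup.card_map_of_injective A.subtype_injective
  obtain ⟨R, hR⟩ := hQ'.exists_le_sylow
  have h3 : p ^ 3 ∣ Nat.card G := hd.trans (Subgroup.card_subgroup_dvd_card A)
  have hRc := card_sylow h3 h4 R
  have hRQ : (Q : Subgroup A).map A.subtype = (R : Subgroup G) := by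
    apply Subgroup.eq_of_le_of_card_ge hR
    rw [hcard, hRc]
    exact Nat.le_of_dvd Nat.card_pos hQ
  have hRA : (R : Subgroup G) ≤ A := by
    rw [← hRQ]
    rintro _ ⟨y, -, rfl⟩
    exact y.2
  have hxp : IsPGroup p (zpowers x) := IsPGroup.of_card (n := 1) (by rw [Nat.card_zpowers, hx, pow_one])
  obtain ⟨P, hxP'⟩ := hxp.exists_le_sylow
  have hxP : x ∈ (P : Subgroup G) := hxP' (mem_zpowers x)
  obtain ⟨g, hg⟩ := MulAction.exists_smul_eq G P R
  have hgx : g * x * g⁻¹ ∈ (R : Subgroup G) := by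
    rw [← hg, Sylow.coe_subgroup_smul]
    exact ⟨x, hxP, rfl⟩
  apply hc
  rw [← card_centralizer_conj g x, ← hRc]
  apply Subgroup.card_dvd_of_le
  intro y hy
  exact mem_centralizer_singleton_iff.2 (hA y (hRA hy) _ (hRA hgx))

/-- the centralizer of an element of order `p` -/
theorem sq_dvd_cent (hna : NoAb p G) (h3 : p ^ 3 ∣ Nat.card G) (h4 : ¬ p ^ 4 ∣ Nat.card G) {x : G}
    (hx : orderOf x = p) : p ^ 2 ∣ Nat.card (centralizer ({x} : Set G)) := by
  have hxp : IsPGroup p (zpowers x) := IsPGroup.of_card (n := 1) (by rw [Nat.card_zpowers, hx, pow_one])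
  obtain ⟨P, hxP'⟩ := hxp.exists_le_sylow
  have hxP : x ∈ (P : Subgroup G) := hxP' (mem_zpowers x)
  obtain ⟨w, hwP, hw, hwc, hPc, hPz⟩ := exists_center hna (card_sylow h3 h4 P)
  by_cases hxc : ∀ g ∈ (P : Subgroup G), g * x = x * g
  · have h1 : (P : Subgroup G) ≤ centralizer ({x} : Set G) := fun g hg => mem_centralizer_singleton_iff.2 (hxc g hg)
    have h2 := Subgroup.card_dvd_of_le h1
    rw [card_sylow h3 h4 P] at h2
    exact (pow_dvd_pow p (by norm_num)).trans h2
  · have h1 : x ∉ zpowers w := by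
      rintro ⟨i, hi⟩
      apply hxc
      intro g hg
      have h2 : w ^ i = x := hi
      rw [← h2]
      exact ((show Commute g w from hwc g hg).zpow_right i).eq
    obtain ⟨A, hA1, hA2, hA3⟩ := pair hw hx (hwc x hxP).symm h1
    have hxA : x ∈ A := (hA3 x).2 ⟨0, 1, by simp⟩
    rw [← hA2]
    apply Subgroup.card_dvd_of_le
    intro y hy
    exact mem_centralizer_singleton_iff.2 (hA1 y hy x hxA)

/-- centralizers in subgroups -/
theorem card_centralizer_dvd (H : Subgroup G) (x : H) :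
    Nat.card (centralizer ({x} : Set H)) ∣ Nat.card (centralizer ({(x : G)} : Set G)) := by
  have h1 : Nat.card ((centralizer ({x} : Set H)).map H.subtype) = Nat.card (centralizer ({x} : Set H)) :=
    Subgroup.card_map_of_injective H.subtype_injective
  rw [← h1]
  apply Subgroup.card_dvd_of_le
  rintro _ ⟨y, hy, rfl⟩
  exact mem_centralizer_singleton_iff.2 (congrArg Subtype.val (mem_centralizer_singleton_iff.1 hy))

theorem NoAb.subgroup (h : NoAb p G) (H : Subgroup G) : NoAb p H := by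
  intro A hA hd
  have h1 : Nat.card (A.map H.subtype) = Nat.card A := Subgroup.card_map_of_injective H.subtype_injective
  refine h (A.map H.subtype) ?_ (by rw [h1]; exact hd)
  rintro _ ⟨x, hx, rfl⟩ _ ⟨y, hy, rfl⟩
  exact congrArg Subtype.val (hA x hx y hy)

end Cube

end Cfsg.Agent.H725.CovHe
end

-- part: H725/Cov/HeFacts
section
/-!
# S2499, the Held group: the elements of order 7 (helper725)
-/

set_option autoImplicit false
set_option maxRecDepth 100000

namespace Cfsg.Agent.H725.CovHe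

open Subgroup Cfsg
open Cfsg.Spor.He (Gen)
open Cfsg.Agent.SporadicB.HePerm (act wd)
open Cfsg.Agent.FixBN.HeStab Cfsg.Agent.KFacts.He.Lv Cfsg.Agent.CpAutHe.Cnt Cfsg.Agent.CpAutHe.Bound
open Cfsg.Agent.CpAutHe.Seven
open Cfsg.Agent.KFacts.He.TwoACent (L)
open Cfsg.Agent.H492.IMHe (dvd_cent oz73 o4 Z73)
open Cfsg.Agent.H492.IMHeCnt (comm_of_chk)

/-- elements of order `p` generating conjugate subgroups -/
theorem card_cent_eq {G : Type*} [Group G] [Finite G] {p : ℕ} {x y u : G} (hx : orderOf x = p)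
    (hy : orderOf y = p) (hu : u * x * u⁻¹ ∈ zpowers y) :
    Nat.card (centralizer ({x} : Set G)) = Nat.card (centralizer ({y} : Set G)) := by
  apply le_antisymm (card_cent_le hx hy hu)
  have h1 : y ∈ zpowers (u * x * u⁻¹) := by
    have h2 : zpowers (u * x * u⁻¹) = zpowers y := by
      apply Subgroup.eq_of_le_of_card_ge
      · rwa [zpowers_le]
      · rw [Nat.card_zpowers, Nat.card_zpowers, orderOf_conj', hx, hy]
    rw [h2]
    exact mem_zpowers y
  obtain ⟨n, hn⟩ := mem_zpowers_iff.1 h1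
  refine card_cent_le hy hx (u := u⁻¹) ⟨n, ?_⟩
  show x ^ n = u⁻¹ * y * u⁻¹⁻¹
  rw [← hn, conj_zpow]
  group

theorem finHe : Finite Cfsg.Spor.He := Cfsg.Agent.H436.HeFive.finite_he

theorem eq_a {x : Cfsg.Spor.He} (hx : orderOf x = 7) (ha : x * gn .a = gn .a * x) :
    Nat.card ↥(centralizer ({x} : Set Cfsg.Spor.He)) = Nat.card ↥(centralizer ({x0} : Set Cfsg.Spor.He)) := by
  have h7 : Fact (Nat.Prime 7) := ⟨by norm_num⟩
  have := finHe
  have hxL := mem_L_of_order (by rw [← hx, pow_orderOf_eq_one]) ha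
  obtain ⟨g, hg⟩ := CpAutON.Gen.conj_into (G := L) (p := 7) (by rw [card_L]; norm_num)
    (x := ⟨x, hxL⟩) (y := ⟨x0, x0_mem⟩) (by rw [← Subgroup.orderOf_coe]; exact hx)
    (by rw [← Subgroup.orderOf_coe]; exact order0)
  obtain ⟨n, hn⟩ := mem_zpowers_iff.1 hg
  have hn' : x0 ^ n = (g : Cfsg.Spor.He) * x * (g : Cfsg.Spor.He)⁻¹ := congrArg Subtype.val hn
  refine card_cent_eq hx order0 (u := (g : Cfsg.Spor.He)) ?_
  rw [← hn']
  exact zpow_mem (mem_zpowers x0) n

theorem eq_d {x : Cfsg.Spor.He} (hx : orderOf x = 7) (hd : x * wd T1 = wd T1 * x) :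
    Nat.card ↥(centralizer ({x} : Set Cfsg.Spor.He)) = Nat.card ↥(centralizer ({x1} : Set Cfsg.Spor.He)) := by
  have h7 : Fact (Nat.Prime 7) := ⟨by norm_num⟩
  have := finHe
  obtain ⟨g, hg⟩ := CpAutON.Gen.conj_into (G := ↥(centralizer ({wd T1} : Set Cfsg.Spor.He))) (p := 7)
    (by rw [card_t1]; norm_num)
    (x := ⟨x, mem_centralizer_singleton_iff.2 hd⟩) (y := ⟨x1, mem_centralizer_singleton_iff.2 x1_comm⟩)
    (by rw [← Subgroup.orderOf_coe]; exact hx) (by rw [← Subgroup.orderOf_coe]; exact order1)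
  obtain ⟨n, hn⟩ := mem_zpowers_iff.1 hg
  have hn' : x1 ^ n = (g : Cfsg.Spor.He) * x * (g : Cfsg.Spor.He)⁻¹ := congrArg Subtype.val hn
  refine card_cent_eq hx order1 (u := (g : Cfsg.Spor.He)) ?_
  rw [← hn']
  exact zpow_mem (mem_zpowers x1) n

/-- the centralizers of even order -/
theorem even_cases {x : Cfsg.Spor.He} (hx : orderOf x = 7)
    (he : ¬ Odd (Nat.card ↥(centralizer ({x} : Set Cfsg.Spor.He)))) :
    Nat.card ↥(centralizer ({x} : Set Cfsg.Spor.He)) = Nat.card ↥(centralizer ({x0} : Set Cfsg.Spor.He)) ∨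
    Nat.card ↥(centralizer ({x} : Set Cfsg.Spor.He)) = Nat.card ↥(centralizer ({x1} : Set Cfsg.Spor.He)) := by
  have h2 : Fact (Nat.Prime 2) := ⟨Nat.prime_two⟩
  have := finHe
  rw [Nat.not_odd_iff_even, even_iff_two_dvd] at he
  obtain ⟨t, ht⟩ := exists_prime_orderOf_dvd_card' 2 he
  have hto : orderOf (t : Cfsg.Spor.He) = 2 := by rw [Subgroup.orderOf_coe, ht]
  have htx : (t : Cfsg.Spor.He) * x = x * t := mem_centralizer_singleton_iff.1 t.2
  have htt : (t : Cfsg.Spor.He) * t = 1 := by rw [← pow_two, ← hto, pow_orderOf_eq_one]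
  have ht1 : (t : Cfsg.Spor.He) ≠ 1 := by
    intro h
    rw [h, orderOf_one] at hto
    omega
  -- conjugation
  have key : ∀ (r g : Cfsg.Spor.He), g * r * g⁻¹ = t →
      (g⁻¹ * x * g⁻¹⁻¹) * r = r * (g⁻¹ * x * g⁻¹⁻¹) ∧
      Nat.card ↥(centralizer ({g⁻¹ * x * g⁻¹⁻¹} : Set Cfsg.Spor.He)) =
        Nat.card ↥(centralizer ({x} : Set Cfsg.Spor.He)) ∧ orderOf (g⁻¹ * x * g⁻¹⁻¹) = 7 := by
    intro r g hg
    refine ⟨?_, card_cent_conj _ _, by rw [orderOf_conj', hx]⟩
    have h3 := comm_conj (u := g⁻¹) htx.symm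
    have e : g⁻¹ * (t : Cfsg.Spor.He) * g⁻¹⁻¹ = r := by rw [← hg]; group
    rw [e] at h3
    exact h3
  rcases Cfsg.Agent.KFacts.He.Classes.two_classes_ad htt ht1 with ⟨g, hg⟩ | ⟨g, hg⟩
  · have hg' : (g * (wd gw)⁻¹) * wd T1 * (g * (wd gw)⁻¹)⁻¹ = t := by
      rw [← t1_conj, ← hg]
      change _ = g * gn .d * g⁻¹
      group
    obtain ⟨h3, h4, h5⟩ := key _ _ hg'
    rw [← h4]
    exact Or.inr (eq_d h5 h3)
  · obtain ⟨h3, h4, h5⟩ := key _ _ hg
    rw [← h4]
    exact Or.inl (eq_a h5 h3)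

theorem twelve : 12 ∣ Nat.card (centralizer ({x0} : Set Cfsg.Spor.He)) := by
  have := finHe
  have h3 : 3 ∣ Nat.card (centralizer ({wd X0} : Set Cfsg.Spor.He)) :=
    dvd_cent (comm_of_chk (by decide +kernel)) oz73
  have h4 : 4 ∣ Nat.card (centralizer ({wd X0} : Set Cfsg.Spor.He)) :=
    dvd_cent (comm_of_chk (by decide +kernel)) o4
  exact Nat.Coprime.mul_dvd_of_dvd_of_dvd (by norm_num : Nat.Coprime 3 4) h3 h4

theorem two_x1 : 2 ∣ Nat.card (centralizer ({x1} : Set Cfsg.Spor.He)) := by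
  have := finHe
  have h1 : wd T1 ≠ 1 := by
    intro h
    have h2 := card_t1
    rw [h] at h2
    have h3 : centralizer ({(1 : Cfsg.Spor.He)} : Set Cfsg.Spor.He) = ⊤ := by
      rw [eq_top_iff]
      intro g _
      rw [mem_centralizer_singleton_iff, one_mul, mul_one]
    rw [h3, Subgroup.card_top, card_he] at h2
    norm_num at h2
  have h2 : orderOf (wd T1) = 2 := by
    rw [← t1_conj, orderOf_conj']
    refine orderOf_eq_prime (by
      rw [pow_two]
      exact Cfsg.Agent.KFacts.He.TwoACent.gn_mul_self _) ?_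
    intro h
    apply h1
    rw [← t1_conj, h]
    group
  exact dvd_cent x1_comm.symm h2

theorem card_seven {x : Cfsg.Spor.He} (hx : orderOf x = 7) :
    49 ∣ Nat.card (centralizer ({x} : Set Cfsg.Spor.He)) := by
  have h7 : Fact (Nat.Prime 7) := ⟨by norm_num⟩
  have := finHe
  have h4 : ¬ 7 ^ 4 ∣ Nat.card Cfsg.Spor.He := by rw [card_he]; norm_num
  have h0 : ¬ 7 ^ 3 ∣ Nat.card (centralizer ({x0} : Set Cfsg.Spor.He)) := by
    intro h
    have h5 : 12 * 7 ^ 3 ∣ Nat.card (centralizer ({x0} : Set Cfsg.Spor.He)) :=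
      Nat.Coprime.mul_dvd_of_dvd_of_dvd (by norm_num) twelve h
    have h6 := Nat.le_of_dvd Nat.card_pos h5
    have h8 : Nat.card (centralizer ({x0} : Set Cfsg.Spor.He)) ≤ 1176 := card0
    omega
  exact sq_dvd_cent (p := 7) (noAb_of h4 order0 h0) (by rw [card_he]; norm_num) h4 hx

theorem card_x0 : Nat.card (centralizer ({x0} : Set Cfsg.Spor.He)) = 588 ∨
    Nat.card (centralizer ({x0} : Set Cfsg.Spor.He)) = 1176 := by
  have := finHe
  have h1 : 12 * 49 ∣ Nat.card (centralizer ({x0} : Set Cfsg.Spor.He)) :=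
    Nat.Coprime.mul_dvd_of_dvd_of_dvd (by norm_num) twelve (card_seven order0)
  have h2 : Nat.card (centralizer ({x0} : Set Cfsg.Spor.He)) ≤ 1176 := card0
  have h3 : 0 < Nat.card (centralizer ({x0} : Set Cfsg.Spor.He)) := Nat.card_pos
  omega

theorem card_x1 : Nat.card (centralizer ({x1} : Set Cfsg.Spor.He)) = 98 ∨
    Nat.card (centralizer ({x1} : Set Cfsg.Spor.He)) = 196 := by
  have := finHe
  have h1 : 2 * 49 ∣ Nat.card (centralizer ({x1} : Set Cfsg.Spor.He)) :=
    Nat.Coprime.mul_dvd_of_dvd_of_dvd (by norm_num) two_x1 (card_seven order1)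
  have h2 : Nat.card (centralizer ({x1} : Set Cfsg.Spor.He)) ≤ 196 := card1
  have h3 : 0 < Nat.card (centralizer ({x1} : Set Cfsg.Spor.He)) := Nat.card_pos
  omega

/-- **the elements of order 7** -/
theorem seven {x : Cfsg.Spor.He} (hx : orderOf x = 7) :
    Nat.card (centralizer ({x} : Set Cfsg.Spor.He)) = 1029 ∨
    (Nat.card (centralizer ({x} : Set Cfsg.Spor.He)) = 588 ∨ Nat.card (centralizer ({x} : Set Cfsg.Spor.He)) = 1176) ∨
    (Nat.card (centralizer ({x} : Set Cfsg.Spor.He)) = 98 ∨ Nat.card (centralizer ({x} : Set Cfsg.Spor.He)) = 196) := by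
  have := finHe
  rcases Cfsg.Agent.H14.Tor.He.seven hx with ⟨z, hz, hzx⟩ | h
  · have h2 : 2 ∣ Nat.card (centralizer ({x} : Set Cfsg.Spor.He)) := dvd_cent hzx hz
    rcases even_cases hx (by rw [Nat.not_odd_iff_even, even_iff_two_dvd]; exact h2) with h | h
    · rw [h]; exact Or.inr (Or.inl card_x0)
    · rw [h]; exact Or.inr (Or.inr card_x1)
  · exact Or.inl h

theorem comm_x0 : x0 * wd [.b, .a] = wd [.b, .a] * x0 := by
  have h : wd [.b, .a] * wd X0 = wd X0 * wd [.b, .a] := comm_of_chk (by decide +kernel)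
  exact h.symm

end Cfsg.Agent.H725.CovHe
end
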